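import Mathlib

/-!
# Data for the fusion of a transposition in its elementary abelian subgroup of order `2^10`

`A` plays the preimage of the radical of a plane stabiliser in a double cover `C` of `PSU₆(2)`, the centraliser
of `d`; the three classes are the preimages of the Hermitian forms of rank 1, 2 and 3.  `LeviData` records two
further conjugates of `A` containing the preimages of the two elation groups of the Levi complement.
-/

set_option autoImplicit false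

namespace Cfsg.Agent.Lib.Fischer3T60

variable {G : Type*} [Group G]

/-- Three classes on `A ∖ {1, d}`, stable under multiplication by `d`, transitive modulo `d`. -/
structure RankClasses (d : G) (A : Subgroup G) (cls : Fin 3 → Set G) : Prop where
  subset : ∀ i, cls i ⊆ (A : Set G)
  cover : ∀ a ∈ A, a ≠ 1 → a ≠ d → ∃ i, a ∈ cls i
  avoid : ∀ i, (1 : G) ∉ cls i ∧ d ∉ cls i
  mul_d : ∀ i, ∀ a ∈ cls i, a * d ∈ cls i
  disjoint : ∀ i j, ∀ a, a ∈ cls i → a ∈ cls j → i = j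
  card : ∀ i, (cls i).ncard = ![42, 420, 560] i
  trans : ∀ i, ∀ a ∈ cls i, ∀ b ∈ cls i, ∃ n ∈ Subgroup.normalizer (A : Set G),
    n * d = d * n ∧ (n * a * n⁻¹ = b ∨ n * a * n⁻¹ = b * d)

/-- A Sylow 2-subgroup `S = A U₁ U₂` of the centraliser of `d`, with `U₁`, `U₂` inside conjugates of `A`. -/
structure LeviData (d : G) (A U₁ U₂ : Subgroup G) : Prop where
  conj₁ : ∃ c : G, c * d = d * c ∧ ∀ u ∈ U₁, c * u * c⁻¹ ∈ A
  conj₂ : ∃ c : G, c * d = d * c ∧ ∀ u ∈ U₂, c * u * c⁻¹ ∈ A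
  norm₁ : U₁ ≤ Subgroup.normalizer (A : Set G)
  norm₂ : U₂ ≤ Subgroup.normalizer (A : Set G)
  norm₂₁ : U₂ ≤ Subgroup.normalizer (U₁ : Set G)
  inter : (A ⊔ U₁) ⊓ U₂ ≤ (A ⊓ U₂) ⊔ (U₁ ⊓ U₂)
  odd_index : Odd ((A ⊔ U₁ ⊔ U₂).relIndex (Subgroup.centralizer ({d} : Set G)))

/-- All that the fusion argument uses. -/
structure Frame (d : G) (A : Subgroup G) : Prop where
  sq : d * d = 1
  ne : d ≠ 1
  mem : d ∈ A
  elem : ∀ a ∈ A, a * a = 1
  card : Nat.card A = 2 ^ 10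
  self : ∀ g : G, (∀ a ∈ A, g * a = a * g) → g ∈ A
  conj : ∀ B : Subgroup G, d ∈ B → (∀ b ∈ B, b * b = 1) → Nat.card B = 2 ^ 10 →
    ∃ c : G, c * d = d * c ∧ ∀ b : G, b ∈ B ↔ c * b * c⁻¹ ∈ A
  stab : Nat.card ↥(Subgroup.centralizer ({d} : Set G) ⊓ Subgroup.normalizer (A : Set G)) = 2 ^ 10 * 20160
  classes : ∃ cls, RankClasses d A cls
  levi : ∃ U₁ U₂, LeviData d A U₁ U₂
  perfect : commutator ↥(Subgroup.centralizer ({d} : Set G)) = ⊤
  fused : ∃ x ∈ A, IsConj d x ∧ x ≠ d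

end Cfsg.Agent.Lib.Fischer3T60
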