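import Cfsg.Agent.Lib.Fischer3T60.Parity

/-!
# The parity argument through the stabiliser of a pair

Here `A U₁ U₂` is a Sylow 2-subgroup only of a subgroup `C₃` of index twice an odd number in the centraliser
of `d`; the outer involution `s` is harmless, as the transferred character is `s`-invariant.
-/

set_option autoImplicit false

namespace Cfsg.Agent.Lib.Fischer3T60

variable {G : Type*} [Group G]

/-- The transfer of a sign character takes an involution to `-1`, if the character is `-1` on all its conjugates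
that lie in the subgroup, this having odd index. -/
theorem transfer_involution {C : Type*} [Group C] [Finite C] (S : Subgroup C) (hS : Odd S.index)
    (f : S →* ℤˣ) {x : C} (hx : x * x = 1) (hfx : ∀ g : C, ∀ h : g⁻¹ * x * g ∈ S, f ⟨g⁻¹ * x * g, h⟩ = -1) :
    f.transfer x = -1 := by
  classical
  have : Fintype (Quotient (MulAction.orbitRel (Subgroup.zpowers x) (C ⧸ S))) := Fintype.ofFinite _
  rw [MonoidHom.transfer_eq_prod_quotient_orbitRel_zpowers_quot]
  set len : Quotient (MulAction.orbitRel (Subgroup.zpowers x) (C ⧸ S)) → ℕ :=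
    fun q => Function.minimalPeriod (x • ·) q.out with hlen
  have hsum : ∑ q, len q = S.index := by
    have := Fintype.ofFinite (C ⧸ S)
    rw [Subgroup.index_eq_card, Nat.card_congr (Subgroup.quotientEquivSigmaZMod S x), Nat.card_sigma]
    exact Finset.sum_congr rfl fun q _ => (Nat.card_zmod _).symm
  rw [Finset.prod_congr rfl (g := fun q => (-1 : ℤˣ) ^ len q)]
  · rw [Finset.prod_pow_eq_pow_sum, hsum, hS.neg_one_pow]
  intro q _
  set v := q.out with hv
  have hper : len q = 1 ∨ len q = 2 := by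
    have h2 : Function.IsPeriodicPt (x • ·) 2 v := by
      show (x • ·)^[2] v = v
      rw [smul_iterate]
      show x ^ 2 • v = v
      rw [pow_two, hx, one_smul]
    exact (Nat.dvd_prime Nat.prime_two).1 h2.minimalPeriod_dvd
  rcases hper with h1 | h1
  · rw [h1, pow_one]
    have hmem : v.out⁻¹ * x * v.out ∈ S := by
      have h := QuotientGroup.out_conj_pow_minimalPeriod_mem S x v
      rw [show Function.minimalPeriod (x • ·) v = 1 from h1, pow_one] at h
      exact h
    refine Eq.trans ?_ (hfx v.out hmem)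
    congr 1
    apply Subtype.ext
    show v.out⁻¹ * x ^ Function.minimalPeriod (x • ·) v * v.out = v.out⁻¹ * x * v.out
    rw [show Function.minimalPeriod (x • ·) v = 1 from h1, pow_one]
  · rw [h1, neg_one_sq]
    refine Eq.trans ?_ f.map_one
    congr 1
    apply Subtype.ext
    show v.out⁻¹ * x ^ Function.minimalPeriod (x • ·) v * v.out = 1
    rw [show Function.minimalPeriod (x • ·) v = 2 from h1, pow_two, hx, mul_one, inv_mul_cancel]

/-- Two sign characters agreeing on a subgroup of odd index are equal. -/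
theorem eq_of_odd_index {C : Type*} [Group C] [Finite C] {V W : C →* ℤˣ} {S : Subgroup C} (hS : Odd S.index)
    (h : ∀ x ∈ S, V x = W x) : V = W := by
  have hle : S ≤ (V * W).ker := fun x hx => by
    rw [MonoidHom.mem_ker, MonoidHom.mul_apply, h x hx, Int.units_mul_self]
  have hdvd : (V * W).ker.index ∣ 2 := by
    rw [Subgroup.index_ker]
    refine (Subgroup.card_subgroup_dvd_card _).trans ?_
    rw [Nat.card_eq_fintype_card, Fintype.card_units_int]
  rcases (Nat.dvd_prime Nat.prime_two).1 hdvd with h1 | h1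
  · ext1 c
    have hc : c ∈ (V * W).ker := (Subgroup.index_eq_one.1 h1) ▸ Subgroup.mem_top c
    rw [MonoidHom.mem_ker, MonoidHom.mul_apply] at hc
    calc V c = V c * (W c * W c) := by rw [Int.units_mul_self, mul_one]
      _ = W c := by rw [← mul_assoc, hc, one_mul]
  · exact absurd (h1 ▸ Subgroup.index_dvd_of_le hle) (fun h2 => hS.not_two_dvd_nat h2)

/-- The contradiction through a pair stabiliser. -/
theorem no_character_pair [Finite G] {d : G} {A U₁ U₂ C₃ : Subgroup G} {M : Set G} {s : G}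
    (hdA : d ∈ A) (helem : ∀ a ∈ A, a * a = 1)
    (conj₁ : ∃ c : G, c * d = d * c ∧ ∀ u ∈ U₁, c * u * c⁻¹ ∈ A)
    (conj₂ : ∃ c : G, c * d = d * c ∧ ∀ u ∈ U₂, c * u * c⁻¹ ∈ A)
    (norm₁ : U₁ ≤ Subgroup.normalizer (A : Set G)) (norm₂ : U₂ ≤ Subgroup.normalizer (A : Set G))
    (norm₂₁ : U₂ ≤ Subgroup.normalizer (U₁ : Set G))
    (inter : (A ⊔ U₁) ⊓ U₂ ≤ (A ⊓ U₂) ⊔ (U₁ ⊓ U₂))
    (hC₃ : C₃ ≤ Subgroup.centralizer ({d} : Set G))
    (hS : A ⊔ U₁ ⊔ U₂ ≤ C₃) (hodd : Odd ((A ⊔ U₁ ⊔ U₂).relIndex C₃))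
    (hgen : A ⊔ U₁ ⊔ U₂ ≤ Subgroup.closure (insert d M))
    (hM : ∀ x ∈ M, x ∈ C₃ ∧ x * x = 1 ∧ IsConj d x) (hMconj : ∀ c ∈ C₃, ∀ x ∈ M, c * x * c⁻¹ ∈ M)
    (hMS : ∀ x ∈ M, x ∈ A ⊔ U₁ ⊔ U₂ → x ∈ A)
    (hs : s * s = 1) (hsd : s * d = d * s) (hsn : s ∈ Subgroup.normalizer (C₃ : Set G)) (hs₃ : s ∉ C₃)
    (hsM : ∀ x ∈ M, s * x * s⁻¹ ∈ M)
    (hoddK : Odd ((C₃ ⊔ Subgroup.zpowers s).relIndex (Subgroup.centralizer ({d} : Set G))))
    (hperf : commutator ↥(Subgroup.centralizer ({d} : Set G)) = ⊤) (hadd : Additive' d A) : False := by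
  classical
  obtain ⟨K₀, hK₀A, hK₀S, hdK₀, hScen, hK₀⟩ :=
    exists_split hdA helem conj₁ conj₂ norm₁ norm₂ norm₂₁ inter hadd
  set S := A ⊔ U₁ ⊔ U₂
  have hdS : d ∈ S := Subgroup.mem_sup_left (Subgroup.mem_sup_left hdA)
  set S' := S.subgroupOf C₃
  set K' : Subgroup ↥S' := (K₀.subgroupOf C₃).subgroupOf S'
  let d₃ : ↥C₃ := ⟨d, hS hdS⟩
  let dS : ↥S' := ⟨d₃, hdS⟩
  have hdd : d * d = 1 := helem d hdA
  have hidx : K'.index = 2 := Subgroup.index_eq_two_iff.2 ⟨dS, fun b => by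
    have hb := hK₀ ((b : C₃) : G) b.2
    show Xor _ _
    rcases hb with h | h
    · exact Or.inr ⟨h, fun h' => hdK₀ (by simpa using K₀.mul_mem (K₀.inv_mem h) h')⟩
    · exact Or.inl ⟨h, fun h' => hdK₀ (by simpa using K₀.mul_mem (K₀.inv_mem h') h)⟩⟩
  let f : ↥S' →* ℤˣ :=
    { toFun := fun u => if u ∈ K' then 1 else -1
      map_one' := by simp
      map_mul' := fun a b => by
        have := Subgroup.mul_mem_iff_of_index_two hidx (a := a) (b := b)
        by_cases ha : a ∈ K' <;> by_cases hb : b ∈ K' <;> simp_all }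
  -- on the conjugates of `d` in `A` the character is `-1`
  have hfA : ∀ u : ↥S', ((u : C₃) : G) ∈ A → IsConj d ((u : C₃) : G) → f u = -1 := by
    intro u hu hc
    refine if_neg fun h => hdK₀ ?_
    rcases mem_or_mul hadd hdA hu with h' | h'
    · exact absurd hc h'.2
    · have := K₀.mul_mem (K₀.inv_mem h) (hK₀A h')
      simpa using this
  set V := f.transfer
  have hodd' : Odd S'.index := hodd
  have hcen : ∀ c : ↥C₃, c * d₃ = d₃ * c := fun c =>
    Subtype.ext (Subgroup.mem_centralizer_singleton_iff.1 (hC₃ c.2))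
  have hd₃ : d₃ * d₃ = 1 := Subtype.ext hdd
  have hVd : V d₃ = -1 := transfer_involution S' hodd' f hd₃ fun g h => by
    refine hfA _ ?_ ?_
    · show ((g⁻¹ * d₃ * g : C₃) : G) ∈ A
      rw [mul_assoc, ← hcen g, inv_mul_cancel_left]
      exact hdA
    · show IsConj d ((g⁻¹ * d₃ * g : C₃) : G)
      rw [mul_assoc, ← hcen g, inv_mul_cancel_left]
  have hVM : ∀ (x : G) (hx : x ∈ M), V ⟨x, (hM x hx).1⟩ = -1 := fun x hx =>
    transfer_involution S' hodd' f (Subtype.ext (hM x hx).2.1) fun g h => by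
      have hmem : (g : G)⁻¹ * x * g ∈ M := by simpa using hMconj _ (C₃.inv_mem g.2) x hx
      exact hfA _ (hMS _ hmem h) (hM _ hmem).2.2
  -- the transferred character is invariant under `s`
  have hsC : ∀ c ∈ C₃, s * c * s⁻¹ ∈ C₃ := fun c hc => (Subgroup.mem_normalizer_iff.1 hsn c).1 hc
  let σ : ↥C₃ →* ↥C₃ :=
    { toFun := fun c => ⟨s * c * s⁻¹, hsC c c.2⟩
      map_one' := Subtype.ext (by simp)
      map_mul' := fun a b => Subtype.ext (by simp [mul_assoc]) }
  have hgens : S ≤ ((V.comp σ).eqLocus V).map C₃.subtype := by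
    refine hgen.trans ?_
    rw [Subgroup.closure_le]
    rintro x (rfl | hx)
    · refine ⟨d₃, ?_, rfl⟩
      show V (σ d₃) = V d₃
      congr 1
      exact Subtype.ext (by show s * x * s⁻¹ = x; rw [hsd, mul_inv_cancel_right])
    · refine ⟨⟨x, (hM x hx).1⟩, ?_, rfl⟩
      show V (σ _) = V _
      rw [hVM x hx]
      exact hVM _ (hsM x hx)
  have hinv : V.comp σ = V := eq_of_odd_index hodd' fun x hx => by
    obtain ⟨y, hy, hyx⟩ := hgens hx
    have : y = x := Subtype.ext hyx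
    exact this ▸ hy
  -- a subgroup of `C₃ ⟨s⟩` of index 2 avoiding `d`
  set Z := Subgroup.zpowers s
  set W := V.ker.map C₃.subtype
  have hsW : Z ≤ Subgroup.normalizer (W : Set G) := by
    refine Subgroup.zpowers_le.2 (Subgroup.mem_normalizer_iff_map_conj_eq.2 ?_)
    have hle : ∀ w ∈ W, s * w * s⁻¹ ∈ W := by
      rintro w ⟨c, hc, rfl⟩
      refine ⟨σ c, ?_, rfl⟩
      show V (σ c) = 1
      rw [← MonoidHom.comp_apply, hinv]
      exact hc
    refine le_antisymm ?_ ?_
    · rintro _ ⟨w, hw, rfl⟩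
      exact hle w hw
    · intro w hw
      refine ⟨s * w * s⁻¹, hle w hw, ?_⟩
      show s * (s * w * s⁻¹) * s⁻¹ = w
      rw [inv_eq_of_mul_eq_one_right hs, show s * (s * w * s) * s = (s * s) * w * (s * s) by group, hs,
        one_mul, mul_one]
  have hsC₃ : Z ≤ Subgroup.normalizer (C₃ : Set G) := Subgroup.zpowers_le.2 hsn
  set C := Subgroup.centralizer ({d} : Set G)
  have hsZ : s ∈ Z := Subgroup.mem_zpowers s
  have hZmem : ∀ z ∈ Z, z = 1 ∨ z = s := by
    intro z hz
    obtain ⟨i, rfl⟩ := Subgroup.mem_zpowers_iff.1 hz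
    rcases Int.even_or_odd i with ⟨j, rfl⟩ | ⟨j, rfl⟩
    · left; rw [← two_mul, zpow_mul, zpow_two, hs, one_zpow]
    · right; rw [zpow_add, zpow_mul, zpow_two, hs, one_zpow, one_mul, zpow_one]
  have hKC : C₃ ⊔ Z ≤ C := sup_le hC₃ (Subgroup.zpowers_le.2 (Subgroup.mem_centralizer_singleton_iff.2 hsd))
  have hdC : d ∈ C := Subgroup.mem_centralizer_singleton_iff.2 rfl
  refine not_perfect_of_split (⟨d, hdC⟩ : C)
    (fun g => Subtype.ext (Subgroup.mem_centralizer_singleton_iff.1 g.2)) ((C₃ ⊔ Z).subgroupOf C) hoddK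
    (Subgroup.mem_sup_left (hS hdS)) (((W ⊔ Z).subgroupOf C).subgroupOf ((C₃ ⊔ Z).subgroupOf C)) ?_ ?_ hperf
  · rintro ⟨⟨k, hkC⟩, hk⟩
    change k ∈ C₃ ⊔ Z at hk
    show k ∈ W ⊔ Z ∨ k * d ∈ W ⊔ Z
    rw [← SetLike.mem_coe, Subgroup.coe_mul_of_right_le_normalizer_left _ _ hsC₃] at hk
    obtain ⟨c, hc, z, hz, rfl⟩ := hk
    rcases Int.units_eq_one_or (V ⟨c, hc⟩) with h | h
    · exact Or.inl (Subgroup.mul_mem _ (Subgroup.mem_sup_left ⟨⟨c, hc⟩, h, rfl⟩) (Subgroup.mem_sup_right hz))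
    · right
      have hzd : z * d = d * z := by rcases hZmem z hz with rfl | rfl <;> simp [hsd]
      rw [mul_assoc, hzd, ← mul_assoc]
      refine Subgroup.mul_mem _ (Subgroup.mem_sup_left ⟨⟨c, hc⟩ * d₃, ?_, rfl⟩) (Subgroup.mem_sup_right hz)
      show V (⟨c, hc⟩ * d₃) = 1
      rw [map_mul, h, hVd]; rfl
  · intro h
    change d ∈ W ⊔ Z at h
    rw [← SetLike.mem_coe, Subgroup.coe_mul_of_right_le_normalizer_left _ _ hsW] at h
    obtain ⟨w, ⟨c, hc, rfl⟩, z, hz, hwz⟩ := h
    change (c : G) * z = d at hwz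
    rcases hZmem z hz with rfl | rfl
    · have hcd' : (c : G) = d := by simpa using hwz
      have hcd : c = d₃ := Subtype.ext hcd'
      have hc1 : V c = 1 := hc
      rw [hcd, hVd] at hc1
      exact absurd hc1 (by decide)
    · apply hs₃
      have : z = (c : G)⁻¹ * d := by rw [← hwz]; group
      rw [this]
      exact C₃.mul_mem (C₃.inv_mem c.2) (hS hdS)

end Cfsg.Agent.Lib.Fischer3T60
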