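import Mathlib

/-!
# Automorphisms of an elementary abelian group of order `2^10`
-/

set_option autoImplicit false

namespace Cfsg.Agent.Lib.Fischer3T60

variable {A : Type*} [Group A]

/-- The elements fixed by an automorphism. -/
def fixSub (g : MulAut A) : Subgroup A := MonoidHom.eqLocus g.toMonoidHom (MonoidHom.id A)

theorem mem_fixSub {g : MulAut A} {a : A} : a ∈ fixSub g ↔ g a = a := Iff.rfl

theorem fixSub_map {g c : MulAut A} (h : Commute c g) {a : A} (ha : a ∈ fixSub g) : c a ∈ fixSub g := by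
  rw [mem_fixSub] at ha ⊢
  rw [← MulAut.mul_apply, ← h.eq, MulAut.mul_apply, ha]

theorem card_fix_modEq [Finite A] {p : ℕ} [Fact p.Prime] {g : MulAut A} (hg : g ^ p = 1) (F : Subgroup A)
    (hF : ∀ a ∈ F, g a ∈ F) : Nat.card F ≡ Nat.card ↥(F ⊓ fixSub g) [MOD p] := by
  classical
  have := Fintype.ofFinite A
  let f : Function.End ↥F := fun a => ⟨g a, hF a a.2⟩
  have key : ∀ (m : ℕ) (a : F), ((f ^ m) a : A) = (g ^ m) a := by
    intro m
    induction m with
    | zero => intro a; rfl
    | succ m ih =>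
      intro a
      rw [pow_succ, pow_succ, MulAut.mul_apply]
      exact ih (f a)
  have hf : f ^ p ^ 1 = 1 := by
    rw [pow_one]
    funext a
    exact Subtype.ext (by rw [key, hg]; rfl)
  have h := Equiv.Perm.card_fixedPoints_modEq (f := f) hf
  rw [← Nat.card_eq_fintype_card, ← Nat.card_eq_fintype_card] at h
  refine h.trans (Nat.ModEq.symm ?_)
  rw [Nat.card_congr]
  exact
    { toFun := fun a => ⟨⟨a.1, a.2.1⟩, Subtype.ext a.2.2⟩
      invFun := fun a => ⟨a.1.1, a.1.2, congrArg Subtype.val a.2⟩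
      left_inv := fun a => rfl
      right_inv := fun a => rfl }

/-- Without fixed points an automorphism of prime order `p` leaves invariant only subgroups of order `1` mod `p`. -/
theorem card_modEq_one [Finite A] {p : ℕ} [Fact p.Prime] {g : MulAut A} (hg : g ^ p = 1)
    (hfree : ∀ a, g a = a → a = 1) (F : Subgroup A) (hF : ∀ a ∈ F, g a ∈ F) :
    Nat.card F ≡ 1 [MOD p] := by
  have h := card_fix_modEq hg F hF
  have e : F ⊓ fixSub g = ⊥ := (Subgroup.eq_bot_iff_forall _).2 fun a ha => hfree a ha.2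
  rw [e, Subgroup.card_bot] at h
  exact h

theorem card_eq_pow (hA : Nat.card A = 2 ^ 10) (F : Subgroup A) : ∃ k, k ≤ 10 ∧ Nat.card F = 2 ^ k :=
  (Nat.dvd_prime_pow Nat.prime_two).1 (hA ▸ F.card_subgroup_dvd_card)

/-- A prime dividing no `2^m - 1` with `m ≤ 10` is not the order of an automorphism. -/
theorem not_orderOf_eq [Finite A] (hA : Nat.card A = 2 ^ 10) {p : ℕ} (hp : p.Prime)
    (hbad : ∀ k < 10, 2 ^ 10 % p ≠ 2 ^ k % p) (g : MulAut A) : orderOf g ≠ p := by
  intro hg
  have := Fact.mk hp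
  have h := card_fix_modEq (p := p) (g := g) (by rw [← hg]; exact pow_orderOf_eq_one g) ⊤ (fun _ _ => trivial)
  rw [top_inf_eq, Subgroup.card_top, hA] at h
  obtain ⟨k, hk, hk'⟩ := card_eq_pow hA (fixSub g)
  rw [hk'] at h
  rcases lt_or_eq_of_le hk with hlt | rfl
  · exact hbad k hlt h
  · have : fixSub g = ⊤ := Subgroup.eq_top_of_card_eq _ (by rw [hk', hA])
    have hg1 : g = 1 := MulEquiv.ext fun a => by
      have ha : a ∈ fixSub g := this ▸ Subgroup.mem_top a
      exact ha
    rw [hg1, orderOf_one] at hg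
    exact hp.ne_one hg.symm

/-- A group acting freely on a finite set has order dividing that of the set. -/
theorem card_dvd_of_free {H α : Type*} [Group H] [Finite H] [MulAction H α] [Finite α]
    (hfree : ∀ (h : H) (a : α), h • a = a → h = 1) : Nat.card H ∣ Nat.card α := by
  classical
  have := Fintype.ofFinite α
  rw [Nat.card_congr (MulAction.selfEquivSigmaOrbitsQuotientStabilizer H α), Nat.card_sigma]
  refine Finset.dvd_sum fun ω _ => ?_
  have e : MulAction.stabilizer H ω.out = ⊥ := (Subgroup.eq_bot_iff_forall _).2 fun h hh => hfree h _ hh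
  rw [e, ← Subgroup.index_eq_card, Subgroup.index_bot]

end Cfsg.Agent.Lib.Fischer3T60
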