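import Cfsg.Agent.Lib.Fischer3T60.Aut

/-!
# No group of automorphisms of `2^10` is transitive with point stabilisers of order 20160
-/

set_option autoImplicit false

namespace Cfsg.Agent.Lib.Fischer3T60

variable {A : Type*} [Group A] [Finite A] {X : Subgroup (MulAut A)} {d : A}

theorem cong_pow_seven : ∀ i : ZMod 31, i ^ 7 = 1 → i = 1 := by decide

theorem index_arith {k m j : ℕ} (hk : k ∣ 1023) (h11 : 11 ∣ k) (hm : m ∣ 10) (hmul : k * m * j = 20623680)
    (hj : j % 11 = 1) : k = 341 ∧ m = 2 := by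
  obtain ⟨t, rfl⟩ := h11
  have ht : t ∈ Nat.divisors 93 :=
    Nat.mem_divisors.2 ⟨Nat.dvd_of_mul_dvd_mul_left (show 0 < 11 by norm_num) (by simpa using hk), by norm_num⟩
  have hm' : m ∈ Nat.divisors 10 := Nat.mem_divisors.2 ⟨hm, by norm_num⟩
  rw [show Nat.divisors 93 = {1, 3, 31, 93} by decide] at ht
  rw [show Nat.divisors 10 = {1, 2, 5, 10} by decide] at hm'
  simp only [Finset.mem_insert, Finset.mem_singleton] at ht hm'
  rcases ht with rfl | rfl | rfl | rfl <;> rcases hm' with rfl | rfl | rfl | rfl <;> omega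

theorem pow_two_mod11 : ∀ k, k ≤ 10 → 2 ^ k % 11 = 1 % 11 → k = 0 ∨ k = 10 := by decide

theorem pow_two_mod31 : ∀ k, k ≤ 10 → 2 ^ k % 31 = 1 % 31 → 2 ^ 10 % 7 = 2 ^ k % 7 → k = 0 ∨ k = 10 := by
  decide

theorem normal_arith {q n : ℕ} (h : q * n = 30240) (hq : q % 11 = 1) (hn : n % 31 = 1) : n = 1 := by
  rcases Nat.lt_or_ge q 175 with h1 | h1
  · interval_cases q <;> omega
  · have h2 : n < 175 := by nlinarith
    interval_cases n <;> omega

theorem not_transitive (hA : Nat.card A = 2 ^ 10) (hd : d ≠ 1) (htr : ∀ a : A, a ≠ 1 → ∃ x ∈ X, x d = a)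
    (hstab : Nat.card ↥(MulAction.stabilizer ↥X d) = 20160) : False := by
  classical
  have horb : MulAction.orbit ↥X d = ({1}ᶜ : Set A) := by
    ext a
    constructor
    · rintro ⟨x, rfl⟩ h
      exact hd ((x.1.map_eq_one_iff).1 h)
    · intro h
      obtain ⟨x, hx, hxa⟩ := htr a h
      exact ⟨⟨x, hx⟩, hxa⟩
  have hone : ({1}ᶜ : Set A).ncard = 1023 := by
    rw [Set.ncard_compl, Set.ncard_singleton, hA]; norm_num
  have hX : Nat.card X = 20623680 := by
    rw [← (MulAction.stabilizer ↥X d).card_mul_index, hstab, MulAction.index_stabilizer, horb, hone]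
  -- a prime not dividing the order of a point stabiliser moves every point
  have hfree : ∀ (g : X) (p : ℕ), p.Prime → orderOf g = p → ¬ p ∣ 20160 → ∀ a : A, g.1 a = a → a = 1 := by
    intro g p _ hg hndvd a ha
    by_contra h1
    obtain ⟨x, hx, hxa⟩ := htr a h1
    have hx' : (⟨x, hx⟩ : X) • d = a := hxa
    set y : X := ⟨x, hx⟩
    have hmem : y⁻¹ * g * y ∈ MulAction.stabilizer ↥X d := by
      rw [MulAction.mem_stabilizer_iff, mul_smul, mul_smul, hx']
      have : g • a = a := ha
      rw [this, ← hx', inv_smul_smul]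
    have hord : orderOf (y⁻¹ * g * y) = p := by
      have := orderOf_injective (MulAut.conj y⁻¹).toMonoidHom (MulEquiv.injective _) g
      simpa [hg] using this
    have := Subgroup.orderOf_dvd_natCard _ hmem
    rw [hord, hstab] at this
    exact hndvd this
  have hp11 := Fact.mk (show Nat.Prime 11 by norm_num)
  have hp31 := Fact.mk (show Nat.Prime 31 by norm_num)
  have hp7 := Fact.mk (show Nat.Prime 7 by norm_num)
  obtain ⟨g, hg⟩ := exists_prime_orderOf_dvd_card' (G := X) 11 (by rw [hX]; norm_num)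
  have hgpow : g.1 ^ 11 = 1 := by
    rw [← hg, ← SubgroupClass.coe_pow, pow_orderOf_eq_one]; rfl
  have hgfree := hfree g 11 hp11.out hg (by norm_num)
  set P : Subgroup X := Subgroup.zpowers g
  have hP : Nat.card P = 11 := by rw [Nat.card_zpowers, hg]
  set C : Subgroup X := Subgroup.centralizer (P : Set X)
  have hgC : g ∈ C := Subgroup.mem_centralizer_iff.2 fun x hx => by
    obtain ⟨i, rfl⟩ := Subgroup.mem_zpowers_iff.1 hx
    exact ((Commute.refl g).zpow_left i).eq
  -- the centraliser of `g` moves every point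
  have hCfree : ∀ c ∈ C, ∀ a : A, c.1 a = a → a = 1 ∨ c = 1 := by
    intro c hc a ha
    have hcomm : Commute g.1 c.1 :=
      congrArg Subtype.val (Subgroup.mem_centralizer_iff.1 hc g (Subgroup.mem_zpowers g))
    have h := card_modEq_one hgpow hgfree (fixSub c.1) (fun b hb => fixSub_map hcomm hb)
    obtain ⟨k, hk, hk'⟩ := card_eq_pow hA (fixSub c.1)
    rw [hk', Nat.ModEq] at h
    obtain rfl | rfl : k = 0 ∨ k = 10 := pow_two_mod11 k hk h
    · left
      have hbot : fixSub c.1 = ⊥ := Subgroup.eq_bot_of_card_eq _ (by rw [hk']; rfl)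
      exact Subgroup.mem_bot.1 (hbot ▸ (mem_fixSub.2 ha))
    · right
      have htop : fixSub c.1 = ⊤ := Subgroup.eq_top_of_card_eq _ (by rw [hk', hA])
      exact Subtype.ext (MulEquiv.ext fun b => mem_fixSub.1 (htop ▸ Subgroup.mem_top b))
  let act : MulAction ↥C {a : A // a ≠ 1} :=
    { smul := fun c a => ⟨c.1.1 a.1, fun h => a.2 ((c.1.1.map_eq_one_iff).1 h)⟩
      one_smul := fun a => rfl
      mul_smul := fun c c' a => rfl }
  have hCdvd : Nat.card C ∣ 1023 := by
    have h := @card_dvd_of_free ↥C {a : A // a ≠ 1} _ _ act _ fun c a hca =>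
      Subtype.ext (((hCfree c c.2 a.1 (congrArg Subtype.val hca)).resolve_left a.2))
    have e : Nat.card {a : A // a ≠ 1} = 1023 := by rw [← hone, ← Nat.card_coe_set_eq]; rfl
    rwa [e] at h
  have hC11 : 11 ∣ Nat.card C := hg ▸ Subgroup.orderOf_dvd_natCard _ hgC
  set N : Subgroup X := Subgroup.normalizer (P : Set X)
  -- `N(P)/C(P)` embeds in the automorphism group of `P`
  have hCN : C ≤ N := Subgroup.centralizer_le_normalizer _
  have hker : P.normalizerMonoidHom.ker = C.subgroupOf N := P.normalizerMonoidHom_ker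
  have hm : (C.subgroupOf N).index ∣ 10 := by
    rw [← hker, Subgroup.index_ker]
    refine (Subgroup.card_subgroup_dvd_card _).trans ?_
    have : IsCyclic P := isCyclic_of_prime_card hP
    rw [IsCyclic.card_mulAut, hP]; decide
  have hN : Nat.card N = Nat.card C * (C.subgroupOf N).index := by
    rw [← (C.subgroupOf N).card_mul_index, Nat.card_congr (Subgroup.subgroupOfEquivOfLe hCN).toEquiv]
  have hfac : Nat.card X = 11 * 1874880 := by rw [hX]
  let SP : Sylow 11 X := Sylow.ofCard P (by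
    rw [hP, hX]
    have : (20623680 : ℕ).factorization 11 = 1 := by
      rw [show (20623680 : ℕ) = 11 * 1874880 by norm_num, Nat.factorization_mul (by norm_num) (by norm_num),
        Finsupp.add_apply, Nat.Prime.factorization_self (by norm_num),
        Nat.factorization_eq_zero_of_not_dvd (by norm_num)]
    rw [this, pow_one])
  have hj : N.index % 11 = 1 := by
    have := card_sylow_modEq_one 11 X
    rw [Sylow.card_eq_index_normalizer SP] at this
    exact this
  have hmul : Nat.card C * (C.subgroupOf N).index * N.index = 20623680 := by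
    rw [← hN, N.card_mul_index, hX]
  obtain ⟨hk, hm2⟩ := index_arith hCdvd hC11 hm hmul hj
  have hN682 : Nat.card N = 682 := by rw [hN, hk, hm2]
  -- the element of order 31 centralising `g`
  obtain ⟨w, hw⟩ := exists_prime_orderOf_dvd_card' (G := C) 31 (by rw [hk]; norm_num)
  have hw' : orderOf w.1 = 31 := by rw [Subgroup.orderOf_coe, hw]
  have hwg : Commute w.1 g := (Subgroup.mem_centralizer_iff.1 w.2 g (Subgroup.mem_zpowers g)).symm
  set W : Subgroup X := Subgroup.zpowers w.1
  have hW : Nat.card W = 31 := by rw [Nat.card_zpowers, hw']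
  have hgw : orderOf (⟨g, hgC⟩ * w : C) = 341 := by
    rw [← Subgroup.orderOf_coe, Subgroup.coe_mul, Commute.orderOf_mul_eq_mul_orderOf_of_coprime hwg.symm] <;>
      rw [hg, hw'] <;> norm_num
  have hCgen : ∀ c ∈ C, orderOf c = 31 → c ∈ W := by
    intro c hc hord
    have htop : Subgroup.zpowers (⟨g, hgC⟩ * w : C) = ⊤ :=
      Subgroup.eq_top_of_card_eq _ (by rw [Nat.card_zpowers, hgw, hk])
    obtain ⟨i, hi⟩ := Subgroup.mem_zpowers_iff.1 (htop ▸ Subgroup.mem_top (⟨c, hc⟩ : C))
    have hi' : (g * w.1) ^ i = c := congrArg Subtype.val hi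
    rw [hwg.symm.mul_zpow] at hi'
    -- raising to the power 31 shows that the `g`-part is trivial
    have h31 : (g ^ i) ^ 31 = 1 := by
      have hc31 : c ^ 31 = 1 := hord ▸ pow_orderOf_eq_one c
      rw [← hi', (hwg.symm.zpow_zpow i i).mul_pow] at hc31
      have hwp : (w.1 ^ i) ^ 31 = 1 := by
        rw [← zpow_natCast, ← zpow_mul, mul_comm, zpow_mul, zpow_natCast, ← hw', pow_orderOf_eq_one, one_zpow]
      rwa [hwp, mul_one] at hc31
    have h11 : (g ^ i) ^ 11 = 1 := by
      rw [← zpow_natCast, ← zpow_mul, mul_comm, zpow_mul, zpow_natCast, ← hg, pow_orderOf_eq_one, one_zpow]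
    have : g ^ i = 1 := by simpa using pow_gcd_eq_one.2 ⟨h31, h11⟩
    rw [this, one_mul] at hi'
    exact ⟨i, hi'⟩
  set K : Subgroup X := Subgroup.normalizer (W : Set X)
  have hNK : N ≤ K := by
    have hCnorm : ∀ x ∈ N, ∀ c ∈ C, x * c * x⁻¹ ∈ C := by
      intro x hx c hc
      refine Subgroup.mem_centralizer_iff.2 fun b hb => ?_
      have hb' : x⁻¹ * b * x ∈ P := (Subgroup.mem_normalizer_iff''.1 hx b).1 hb
      have := Subgroup.mem_centralizer_iff.1 hc _ hb'
      calc b * (x * c * x⁻¹) = x * (x⁻¹ * b * x * c) * x⁻¹ := by group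
        _ = x * (c * (x⁻¹ * b * x)) * x⁻¹ := by rw [this]
        _ = x * c * x⁻¹ * b := by group
    refine Subgroup.le_normalizer_iff.2 fun x hx y hy => ?_
    obtain ⟨i, rfl⟩ := Subgroup.mem_zpowers_iff.1 hy
    rw [← conj_zpow]
    refine Subgroup.zpow_mem _ (hCgen _ (hCnorm x hx _ w.2) ?_) i
    rw [← hw']
    exact orderOf_injective (MulAut.conj x).toMonoidHom (MulEquiv.injective _) w.1
  -- counting conjugates of `P` in `K` and of `W` in `X`
  have hq : (N.subgroupOf K).index % 11 = 1 := by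
    let SK : Sylow 11 K := SP.subtype (Subgroup.le_normalizer.trans hNK)
    have h1 := card_sylow_modEq_one 11 K
    rw [Sylow.card_eq_index_normalizer SK] at h1
    have : (SK : Set K) = (P.subgroupOf K : Set K) := rfl
    rw [this, ← Subgroup.subgroupOf_normalizer_eq (Subgroup.le_normalizer.trans hNK)] at h1
    exact h1
  have hprod : (N.subgroupOf K).index * K.index = 30240 := by
    have h1 := (N.subgroupOf K).card_mul_index
    rw [Nat.card_congr (Subgroup.subgroupOfEquivOfLe hNK).toEquiv, hN682] at h1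
    have h2 := K.card_mul_index
    rw [← h1, hX, mul_assoc] at h2
    omega
  let SW : Sylow 31 X := Sylow.ofCard W (by
    rw [hW, hX]
    have : (20623680 : ℕ).factorization 31 = 1 := by
      rw [show (20623680 : ℕ) = 31 * 665280 by norm_num, Nat.factorization_mul (by norm_num) (by norm_num),
        Finsupp.add_apply, Nat.Prime.factorization_self (by norm_num),
        Nat.factorization_eq_zero_of_not_dvd (by norm_num)]
    rw [this, pow_one])
  have hn : K.index % 31 = 1 := by
    have := card_sylow_modEq_one 31 X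
    rw [Sylow.card_eq_index_normalizer SW] at this
    exact this
  have hKtop : K = ⊤ := Subgroup.index_eq_one.1 (normal_arith hprod hq hn)
  -- an element of order 7 fixing `d` commutes with `w`
  obtain ⟨s, hs⟩ := exists_prime_orderOf_dvd_card' (G := MulAction.stabilizer ↥X d) 7 (by rw [hstab]; norm_num)
  have hs' : orderOf s.1 = 7 := by rw [Subgroup.orderOf_coe, hs]
  obtain ⟨i, hi⟩ : ∃ i : ℕ, w.1 ^ i = s.1 * w.1 * s.1⁻¹ :=
    (mem_powers_iff_mem_zpowers).2
      ((Subgroup.mem_normalizer_iff.1 (show s.1 ∈ K by rw [hKtop]; trivial) w.1).1 (Subgroup.mem_zpowers _))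
  have hiter : ∀ k : ℕ, s.1 ^ k * w.1 * (s.1 ^ k)⁻¹ = w.1 ^ (i ^ k) := by
    intro k
    induction k with
    | zero => simp
    | succ k ih =>
      calc s.1 ^ (k + 1) * w.1 * (s.1 ^ (k + 1))⁻¹
          = s.1 * (s.1 ^ k * w.1 * (s.1 ^ k)⁻¹) * s.1⁻¹ := by rw [pow_succ']; group
        _ = (s.1 * w.1 * s.1⁻¹) ^ (i ^ k) := by rw [ih, conj_pow]
        _ = w.1 ^ (i ^ (k + 1)) := by rw [← hi, ← pow_mul, pow_succ']
  have hsw : Commute s.1 w.1 := by
    have h7 := hiter 7
    rw [← hs', pow_orderOf_eq_one, one_mul, inv_one, mul_one, hs'] at h7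
    have hmod : 1 ≡ i ^ 7 [MOD 31] := by
      rw [← hw', ← pow_eq_pow_iff_modEq, pow_one]
      exact h7
    have hi1 : (i : ZMod 31) = 1 := cong_pow_seven _ (by
      have := (ZMod.natCast_eq_natCast_iff _ _ _).2 hmod
      push_cast at this
      exact this.symm)
    have hconj : s.1 * w.1 * s.1⁻¹ = w.1 := by
      rw [← hi]
      conv_rhs => rw [← pow_one w.1]
      rw [pow_eq_pow_iff_modEq, hw']
      exact (ZMod.natCast_eq_natCast_iff _ _ _).1 (by push_cast; exact hi1)
    exact eq_mul_of_mul_inv_eq hconj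
  have hwfree := hfree w.1 31 hp31.out hw' (by norm_num)
  have hwpow : w.1.1 ^ 31 = 1 := by
    rw [← hw', ← SubgroupClass.coe_pow, pow_orderOf_eq_one]; rfl
  have hspow : s.1.1 ^ 7 = 1 := by
    rw [← hs', ← SubgroupClass.coe_pow, pow_orderOf_eq_one]; rfl
  have hA7 := card_fix_modEq hspow ⊤ (fun _ _ => trivial)
  have hA31 := card_modEq_one hwpow hwfree (fixSub s.1.1)
    (fun b hb => fixSub_map (congrArg Subtype.val hsw.symm : Commute w.1.1 s.1.1) hb)
  obtain ⟨k, hk', hkF⟩ := card_eq_pow hA (fixSub s.1.1)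
  rw [top_inf_eq, Subgroup.card_top, hA, hkF] at hA7
  rw [hkF] at hA31
  rcases pow_two_mod31 k hk' hA31 hA7 with rfl | rfl
  · have hbot : fixSub s.1.1 = ⊥ := Subgroup.eq_bot_of_card_eq _ (by rw [hkF]; rfl)
    exact hd (Subgroup.mem_bot.1 (hbot ▸ (show d ∈ fixSub s.1.1 from s.2)))
  · have htop : fixSub s.1.1 = ⊤ := Subgroup.eq_top_of_card_eq _ (by rw [hkF, hA])
    have h1 : s.1 = 1 := Subtype.ext (MulEquiv.ext fun b => mem_fixSub.1 (htop ▸ Subgroup.mem_top b))
    rw [h1, orderOf_one] at hs'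
    omega

end Cfsg.Agent.Lib.Fischer3T60
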