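import Cfsg.Agent.Lib.Fischer3T60.Parity
import Cfsg.Agent.Lib.Fischer3T60.NoTransitive

/-!
# Exactly 22 conjugates of `d` lie in `A`
-/

set_option autoImplicit false

namespace Cfsg.Agent.Lib.Fischer3T60

variable {G : Type*} [Group G] {d : G} {A : Subgroup G}

/-- The number of conjugates of `d` in a class of size `m`. -/
def ClassCount (m k : ℕ) : Prop := k = 0 ∨ k = m ∨ 2 * k = m

namespace Frame

variable (hF : Frame d A)
include hF

theorem not_isConj_one : ¬ IsConj d (1 : G) := fun h => hF.ne (isConj_one_left.1 h)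

theorem exists_norm {x : G} (hx : x ∈ A) (hc : IsConj d x) :
    ∃ n ∈ Subgroup.normalizer (A : Set G), n * d * n⁻¹ = x := by
  obtain ⟨g, rfl⟩ := isConj_iff.1 hc
  set B := A.map (MulAut.conj g⁻¹).toMonoidHom with hB
  have hmem : ∀ b : G, b ∈ B ↔ g * b * g⁻¹ ∈ A := fun b => by
    rw [hB, Subgroup.mem_map]
    constructor
    · rintro ⟨a, ha, rfl⟩
      simpa [mul_assoc] using ha
    · exact fun h => ⟨_, h, by simp [mul_assoc]⟩
  obtain ⟨c, hcd, hc'⟩ := hF.conj B ((hmem d).2 hx) (fun b hb => by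
      have := hF.elem _ ((hmem b).1 hb)
      rw [show g * b * g⁻¹ * (g * b * g⁻¹) = g * (b * b) * g⁻¹ by group, conj_eq_one_iff] at this
      exact this)
    (by rw [hB, Subgroup.card_map_of_injective (MulEquiv.injective _), hF.card])
  refine ⟨g * c⁻¹, Subgroup.mem_normalizer_iff.2 fun a => ?_, ?_⟩
  · rw [show g * c⁻¹ * a * (g * c⁻¹)⁻¹ = g * (c⁻¹ * a * c) * g⁻¹ by group, ← hmem, hc',
      show c * (c⁻¹ * a * c) * c⁻¹ = a by group]
  · have e : c⁻¹ * d * c = d := by rw [mul_assoc, ← hcd, inv_mul_cancel_left]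
    calc g * c⁻¹ * d * (g * c⁻¹)⁻¹ = g * (c⁻¹ * d * c) * g⁻¹ := by group
      _ = g * d * g⁻¹ := by rw [e]

variable {cls : Fin 3 → Set G} (hR : RankClasses d A cls) [Finite G]
include hR

/-- The conjugates of `d` in one class: none, all or one of each pair. -/
theorem class_count (i : Fin 3) :
    ClassCount (![42, 420, 560] i) (cls i ∩ {x | IsConj d x}).ncard ∧
      ((cls i ∩ {x | IsConj d x}).ncard = ![42, 420, 560] i → ∀ b ∈ cls i, IsConj d b) ∧
      ((cls i ∩ {x | IsConj d x}).ncard ≠ 0 → ∀ b ∈ cls i, IsConj d b ∨ IsConj d (b * d)) := by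
  have hdd := hF.sq
  have hstep : ∀ a ∈ cls i, ∀ b ∈ cls i, (IsConj d a → IsConj d b ∨ IsConj d (b * d)) ∧
      (IsConj d a → IsConj d (a * d) → IsConj d b) := by
    intro a ha b hb
    obtain ⟨n, -, hnd, hn⟩ := hR.trans i a ha b hb
    have e1 : IsConj d (n * a * n⁻¹) ↔ IsConj d a := isConj_conj_iff
    rcases hn with hn | hn <;> rw [hn] at e1
    · exact ⟨fun h => Or.inl (e1.2 h), fun h _ => e1.2 h⟩
    · refine ⟨fun h => Or.inr (e1.2 h), fun _ h => ?_⟩
      have e2 : n * (a * d) * n⁻¹ = b := by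
        rw [show n * (a * d) * n⁻¹ = (n * a * n⁻¹) * (n * d * n⁻¹) by group, hn, hnd, mul_inv_cancel_right,
          mul_assoc, hdd, mul_one]
      rw [← e2]
      exact isConj_conj_iff.2 h
  set P : Set G := cls i ∩ {x | IsConj d x}
  by_cases hboth : ∃ a ∈ cls i, IsConj d a ∧ IsConj d (a * d)
  · obtain ⟨a, ha, h1, h2⟩ := hboth
    have hall : ∀ b ∈ cls i, IsConj d b := fun b hb => (hstep a ha b hb).2 h1 h2
    have hP : P = cls i := Set.inter_eq_left.2 hall
    rw [hP, hR.card i]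
    exact ⟨Or.inr (Or.inl rfl), fun _ => hall, fun _ b hb => Or.inl (hall b hb)⟩
  push Not at hboth
  by_cases hne : P = ∅
  · have hm : ![42, 420, 560] i ≠ 0 := by fin_cases i <;> simp
    rw [hne, Set.ncard_empty]
    exact ⟨Or.inl rfl, fun h => absurd h.symm hm, fun h => absurd rfl h⟩
  obtain ⟨a, ha, h1⟩ := Set.nonempty_iff_ne_empty.2 hne
  have hor : ∀ b ∈ cls i, IsConj d b ∨ IsConj d (b * d) := fun b hb => (hstep a ha b hb).1 h1
  have htwo : 2 * P.ncard = ![42, 420, 560] i := by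
    rw [← hR.card i, two_mul]
    have hun : cls i = P ∪ (· * d) '' P := by
      ext b
      constructor
      · intro hb
        rcases hor b hb with h | h
        · exact Or.inl ⟨hb, h⟩
        · exact Or.inr ⟨b * d, ⟨hR.mul_d i b hb, h⟩, by simp [mul_assoc, hdd]⟩
      · rintro (⟨hb, -⟩ | ⟨c, ⟨hc, -⟩, rfl⟩)
        · exact hb
        · exact hR.mul_d i c hc
    have hdisj : Disjoint P ((· * d) '' P) := by
      rw [Set.disjoint_left]
      rintro b ⟨-, hb⟩ ⟨c, ⟨hc, hc'⟩, rfl⟩
      exact hboth c hc hc' hb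
    conv_rhs => rw [hun, Set.ncard_union_eq hdisj, Set.ncard_image_of_injective _ (mul_left_injective d)]
  refine ⟨Or.inr (Or.inr htwo), fun h => ?_, fun _ => hor⟩
  have : ![42, 420, 560] i ≠ 0 := by fin_cases i <;> simp
  omega

/-- The conjugates of `d` in `A` are `d` and those in the three classes. -/
theorem ncard_omega : Set.ncard {x : G | x ∈ A ∧ IsConj d x} =
    1 + (cls 0 ∩ {x | IsConj d x}).ncard + (cls 1 ∩ {x | IsConj d x}).ncard +
      (cls 2 ∩ {x | IsConj d x}).ncard := by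
  have e : {x : G | x ∈ A ∧ IsConj d x} = insert d ((cls 0 ∩ {x | IsConj d x}) ∪
      (cls 1 ∩ {x | IsConj d x}) ∪ (cls 2 ∩ {x | IsConj d x})) := by
    ext x
    constructor
    · rintro ⟨hx, hc⟩
      by_cases hxd : x = d
      · exact Or.inl hxd
      obtain ⟨i, hi⟩ := hR.cover x hx (fun h => hF.not_isConj_one (h ▸ hc)) hxd
      right
      fin_cases i
      · exact Or.inl (Or.inl ⟨hi, hc⟩)
      · exact Or.inl (Or.inr ⟨hi, hc⟩)
      · exact Or.inr ⟨hi, hc⟩
    · rintro (rfl | ((⟨h, hc⟩ | ⟨h, hc⟩) | ⟨h, hc⟩))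
      · exact ⟨hF.mem, IsConj.refl _⟩
      all_goals exact ⟨hR.subset _ h, hc⟩
  have hdis : ∀ i j : Fin 3, i ≠ j → Disjoint (cls i ∩ {x | IsConj d x}) (cls j ∩ {x | IsConj d x}) :=
    fun i j hij => Set.disjoint_left.2 fun a ha hb => hij (hR.disjoint i j a ha.1 hb.1)
  rw [e, Set.ncard_insert_of_notMem, Set.ncard_union_eq, Set.ncard_union_eq (hdis 0 1 (by decide))]
  · omega
  · exact (hdis 0 2 (by decide)).union_left (hdis 1 2 (by decide))
  · rintro ((h | h) | h)
    · exact (hR.avoid 0).2 h.1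
    · exact (hR.avoid 1).2 h.1
    · exact (hR.avoid 2).2 h.1

omit hR [Finite G] in
/-- The group induced on `A` by its normaliser. -/
theorem exists_induced : ∃ (X : Subgroup (MulAut A)),
    (∀ a : A, IsConj d (a : G) → ∃ x ∈ X, x ⟨d, hF.mem⟩ = a) ∧
    Nat.card ↥(MulAction.stabilizer ↥X (⟨d, hF.mem⟩ : A)) = 20160 ∧
    Nat.card X = 20160 * Set.ncard {x : G | x ∈ A ∧ IsConj d x} := by
  classical
  set N := Subgroup.normalizer (A : Set G)
  set φ := A.normalizerMonoidHom
  set d' : A := ⟨d, hF.mem⟩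
  have hφ : ∀ (n : N) (a : A), ((φ n a : A) : G) = n * a * (n : G)⁻¹ := fun n a => rfl
  set X := φ.range
  refine ⟨X, fun a ha => ?_, ?_⟩
  · obtain ⟨n, hn, hnd⟩ := hF.exists_norm a.2 ha
    exact ⟨φ ⟨n, hn⟩, ⟨_, rfl⟩, Subtype.ext hnd⟩
  set D := Subgroup.centralizer ({d} : Set G) ⊓ N
  let ψ : ↥D →* MulAut A := φ.comp (Subgroup.inclusion inf_le_right)
  have hker : Nat.card ψ.ker = 2 ^ 10 := by
    rw [← hF.card]
    refine Nat.card_congr
      { toFun := fun u => ⟨u.1.1, hF.self _ fun a ha => ?_⟩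
        invFun := fun a => ⟨⟨a.1, ?_, Subgroup.le_normalizer a.2⟩, ?_⟩
        left_inv := fun u => rfl
        right_inv := fun a => rfl }
    · have h : ψ u.1 ⟨a, ha⟩ = (⟨a, ha⟩ : A) := by rw [MonoidHom.mem_ker.1 u.2]; rfl
      have := congrArg Subtype.val h
      exact mul_inv_eq_iff_eq_mul.1 this
    · refine Subgroup.mem_centralizer_singleton_iff.2 ?_
      have e := hF.elem _ (A.mul_mem a.2 hF.mem)
      calc (a : G) * d = ((a : G) * d)⁻¹ := eq_inv_of_mul_eq_one_left e
        _ = d * a := by rw [mul_inv_rev, inv_eq_of_mul_eq_one_right hF.sq,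
              inv_eq_of_mul_eq_one_right (hF.elem _ a.2)]
    · rw [MonoidHom.mem_ker]
      refine MulEquiv.ext fun b => Subtype.ext ?_
      show (a : G) * b * (a : G)⁻¹ = b
      have e := hF.elem _ (A.mul_mem a.2 b.2)
      have hab : (a : G) * b = b * a := by
        calc (a : G) * b = ((a : G) * b)⁻¹ := eq_inv_of_mul_eq_one_left e
          _ = b * a := by rw [mul_inv_rev, inv_eq_of_mul_eq_one_right (hF.elem _ b.2),
              inv_eq_of_mul_eq_one_right (hF.elem _ a.2)]
      rw [hab, mul_inv_cancel_right]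
  have hrange : Nat.card ψ.range = 20160 := by
    have h := ψ.ker.card_mul_index
    rw [Subgroup.index_ker, hker, show Nat.card ↥D = 2 ^ 10 * 20160 from hF.stab] at h
    omega
  have hstab : (MulAction.stabilizer ↥X d').map X.subtype = ψ.range := by
    ext x
    simp only [Subgroup.mem_map, MonoidHom.mem_range]
    constructor
    · rintro ⟨⟨y, n, rfl⟩, hy, rfl⟩
      have hy' : (n : G) * d * (n : G)⁻¹ = d := congrArg Subtype.val hy
      exact ⟨⟨n, Subgroup.mem_centralizer_singleton_iff.2 (mul_inv_eq_iff_eq_mul.1 hy'), n.2⟩, rfl⟩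
    · rintro ⟨u, rfl⟩
      refine ⟨⟨ψ u, _, rfl⟩, Subtype.ext ?_, rfl⟩
      show (u : G) * d * (u : G)⁻¹ = d
      rw [Subgroup.mem_centralizer_singleton_iff.1 u.2.1, mul_inv_cancel_right]
  have hst : Nat.card ↥(MulAction.stabilizer ↥X d') = 20160 := by
    rw [← hrange, ← hstab, Subgroup.card_map_of_injective (Subgroup.subtype_injective X)]
  refine ⟨hst, ?_⟩
  rw [← (MulAction.stabilizer ↥X d').card_mul_index, hst, MulAction.index_stabilizer]
  congr 1
  rw [← Set.ncard_image_of_injective _ (Subtype.val_injective : Function.Injective (Subtype.val : A → G))]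
  congr 1
  ext x
  constructor
  · rintro ⟨a, ⟨⟨y, n, rfl⟩, rfl⟩, rfl⟩
    exact ⟨SetLike.coe_mem _, isConj_iff.2 ⟨(n : G), rfl⟩⟩
  · rintro ⟨hx, hc⟩
    obtain ⟨n, hn, hnd⟩ := hF.exists_norm hx hc
    exact ⟨⟨x, hx⟩, ⟨⟨φ ⟨n, hn⟩, _, rfl⟩, Subtype.ext hnd⟩, rfl⟩

omit hR in
theorem ncard_omega_prime {p : ℕ} (hp : p.Prime) (hbad : ∀ k < 10, 2 ^ 10 % p ≠ 2 ^ k % p) :
    ¬ p ∣ Set.ncard {x : G | x ∈ A ∧ IsConj d x} := by
  intro hdvd
  have := Fact.mk hp
  obtain ⟨X, -, -, hX⟩ := hF.exists_induced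
  obtain ⟨x, hx⟩ := exists_prime_orderOf_dvd_card' (G := X) p (hX ▸ dvd_mul_of_dvd_right hdvd _)
  exact not_orderOf_eq hF.card hp hbad x.1 (by rw [Subgroup.orderOf_coe, hx])

end Frame

/-- Among the possible orbit lengths with a missing class only 22 and 561 survive. -/
theorem partial_cases {a b c : ℕ} (ha : ClassCount 42 a) (hb : ClassCount 420 b) (hc : ClassCount 560 c)
    (hz : a = 0 ∨ b = 0 ∨ c = 0) (hpos : a + b + c ≠ 0) :
    1 + a + b + c = 22 ∨ (a = 0 ∧ b = 0 ∧ c = 560) ∨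
      ∃ p ∈ [13, 19, 23, 29, 43, 67, 97, 109, 151, 211, 257, 281, 421, 463, 491, 701], p ∣ 1 + a + b + c := by
  have ha' : a = 0 ∨ a = 21 ∨ a = 42 := by unfold ClassCount at ha; omega
  have hb' : b = 0 ∨ b = 210 ∨ b = 420 := by unfold ClassCount at hb; omega
  have hc' : c = 0 ∨ c = 280 ∨ c = 560 := by unfold ClassCount at hc; omega
  rcases ha' with rfl | rfl | rfl <;> rcases hb' with rfl | rfl | rfl <;> rcases hc' with rfl | rfl | rfl <;>
    first | omega | decide

theorem bad_primes : ∀ p ∈ [13, 19, 23, 29, 43, 67, 97, 109, 151, 211, 257, 281, 421, 463, 491, 701],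
    p.Prime ∧ ∀ k < 10, 2 ^ 10 % p ≠ 2 ^ k % p := by
  intro p hp
  simp only [List.mem_cons, List.not_mem_nil, or_false] at hp
  rcases hp with rfl | rfl | rfl | rfl | rfl | rfl | rfl | rfl | rfl | rfl | rfl | rfl | rfl | rfl | rfl | rfl <;>
    exact ⟨by norm_num, by decide⟩

/-- With all classes met, only 512 and 1023 survive. -/
theorem full_cases {a b c t : ℕ} (ha : ClassCount 42 a) (hb : ClassCount 420 b) (hc : ClassCount 560 c)
    (h0 : a ≠ 0) (h1 : b ≠ 0) (h2 : c ≠ 0) (ht : t ∣ 2 ^ 10) (hn : t + (1 + a + b + c) = 1024) :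
    t = 512 ∨ t = 1 := by
  obtain ⟨k, hk, rfl⟩ := (Nat.dvd_prime_pow Nat.prime_two).1 ht
  unfold ClassCount at ha hb hc
  interval_cases k <;> omega

namespace Frame

variable (hF : Frame d A) [Finite G]
include hF

set_option maxHeartbeats 1000000 in
theorem ncard_eq : Set.ncard {x : G | x ∈ A ∧ IsConj d x} = 22 := by
  classical
  obtain ⟨cls, hR⟩ := hF.classes
  obtain ⟨hc0, hall0, hor0⟩ := hF.class_count hR 0
  obtain ⟨hc1, hall1, hor1⟩ := hF.class_count hR 1
  obtain ⟨hc2, hall2, hor2⟩ := hF.class_count hR 2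
  have hn := hF.ncard_omega hR
  set a := (cls 0 ∩ {x | IsConj d x}).ncard with ha
  set b := (cls 1 ∩ {x | IsConj d x}).ncard with hb
  set c := (cls 2 ∩ {x | IsConj d x}).ncard with hc
  change ClassCount 42 a at hc0
  change ClassCount 420 b at hc1
  change ClassCount 560 c at hc2
  by_cases hz : a = 0 ∨ b = 0 ∨ c = 0
  · have hpos : a + b + c ≠ 0 := by
      obtain ⟨x, hx, hxc, hxd⟩ := hF.fused
      intro h0
      have hcard : Set.ncard {x : G | x ∈ A ∧ IsConj d x} = 1 := by omega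
      obtain ⟨y, hy⟩ := Set.ncard_eq_one.1 hcard
      have h1 : x = y := by
        have : x ∈ ({y} : Set G) := hy ▸ ⟨hx, hxc⟩
        exact this
      have h2 : d = y := by
        have : d ∈ ({y} : Set G) := hy ▸ ⟨hF.mem, IsConj.refl d⟩
        exact this
      exact hxd (h1.trans h2.symm)
    rcases partial_cases hc0 hc1 hc2 hz hpos with h | ⟨h0, h1, h2⟩ | ⟨p, hp, hdvd⟩
    · omega
    · -- `561`: the class of `d` with `1` would be a subgroup
      exfalso
      have hall := hall2 h2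
      have honly : ∀ x ∈ A, IsConj d x → x = d ∨ x ∈ cls 2 := by
        intro x hx hxc
        by_cases hxd : x = d
        · exact Or.inl hxd
        obtain ⟨i, hi⟩ := hR.cover x hx (fun h => hF.not_isConj_one (h ▸ hxc)) hxd
        fin_cases i
        · exact absurd ((Set.ncard_eq_zero).1 h0) (Set.nonempty_iff_ne_empty.1 ⟨x, hi, hxc⟩)
        · exact absurd ((Set.ncard_eq_zero).1 h1) (Set.nonempty_iff_ne_empty.1 ⟨x, hi, hxc⟩)
        · exact Or.inr hi
      have hclosed : ∀ x ∈ A, ∀ y ∈ A, IsConj d x → IsConj d y → x ≠ y → IsConj d (x * y) := by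
        intro x hx y hy hxc hyc hne
        obtain ⟨n, hn', rfl⟩ := hF.exists_norm hx hxc
        have hu : n⁻¹ * y * n ∈ A := (Subgroup.mem_normalizer_iff''.1 hn' y).1 hy
        have hyeq : y = n * (n⁻¹ * y * n) * n⁻¹ := by group
        rcases honly _ hu (isConj_conj_iff.1 (hyeq ▸ hyc)) with h | h
        · exact absurd (by rw [hyeq, h]) hne
        · have hcomm : d * (n⁻¹ * y * n) = n⁻¹ * y * n * d := by
            have e := hF.elem _ (A.mul_mem hF.mem hu)
            calc d * (n⁻¹ * y * n) = (d * (n⁻¹ * y * n))⁻¹ := eq_inv_of_mul_eq_one_left e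
              _ = n⁻¹ * y * n * d := by
                rw [mul_inv_rev, inv_eq_of_mul_eq_one_right (hF.elem _ hu), inv_eq_of_mul_eq_one_right hF.sq]
          rw [hyeq, show n * d * n⁻¹ * (n * (n⁻¹ * y * n) * n⁻¹) = n * (d * (n⁻¹ * y * n)) * n⁻¹ by group,
            hcomm, isConj_conj_iff]
          exact hall _ (hR.mul_d 2 _ h)
      let W : Subgroup G :=
        { carrier := insert 1 {x : G | x ∈ A ∧ IsConj d x}
          one_mem' := Or.inl rfl
          mul_mem' := fun {x y} hx hy => by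
            rcases hx with rfl | ⟨hx, hxc⟩
            · rw [one_mul]; exact hy
            rcases hy with rfl | ⟨hy, hyc⟩
            · rw [mul_one]; exact Or.inr ⟨hx, hxc⟩
            by_cases hxy : x = y
            · exact Or.inl (by rw [hxy, hF.elem y hy])
            · exact Or.inr ⟨A.mul_mem hx hy, hclosed x hx y hy hxc hyc hxy⟩
          inv_mem' := fun {x} hx => by
            rcases hx with rfl | ⟨hx, hxc⟩
            · rw [inv_one]; exact Or.inl rfl
            · rw [inv_eq_of_mul_eq_one_right (hF.elem x hx)]; exact Or.inr ⟨hx, hxc⟩ }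
      have hW : Nat.card W = 562 := by
        show Nat.card ↥(insert 1 {x : G | x ∈ A ∧ IsConj d x} : Set G) = 562
        rw [Nat.card_coe_set_eq, Set.ncard_insert_of_notMem (fun h => hF.not_isConj_one h.2)]
        omega
      have hWA : W ≤ A := by
        intro x hx
        rcases hx with rfl | hx
        · exact A.one_mem
        · exact hx.1
      have := Subgroup.card_dvd_of_le hWA
      rw [hW, hF.card] at this
      norm_num at this
    · exact absurd (hn ▸ hdvd) (hF.ncard_omega_prime (bad_primes p hp).1 (bad_primes p hp).2)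
  · exfalso
    push Not at hz
    obtain ⟨hza, hzb, hzc⟩ := hz
    have hor : ∀ v ∈ A, v ≠ 1 → v ≠ d → IsConj d v ∨ IsConj d (v * d) := by
      intro v hv h1 hd
      obtain ⟨i, hi⟩ := hR.cover v hv h1 hd
      fin_cases i
      · exact hor0 hza v hi
      · exact hor1 hzb v hi
      · exact hor2 hzc v hi
    have hshift : ∀ v ∈ A, v ≠ 1 → ¬ IsConj d v → ∀ y ∈ A, IsConj d y → IsConj d (v * y) := by
      intro v hv h1 hvc y hy hyc
      obtain ⟨n, hn', rfl⟩ := hF.exists_norm hy hyc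
      have hu : n⁻¹ * v * n ∈ A := (Subgroup.mem_normalizer_iff''.1 hn' v).1 hv
      have hveq : v = n * (n⁻¹ * v * n) * n⁻¹ := by group
      have hu1 : n⁻¹ * v * n ≠ 1 := fun h => h1 (by rw [hveq, h]; group)
      have huc : ¬ IsConj d (n⁻¹ * v * n) := fun h => hvc (hveq ▸ isConj_conj_iff.2 h)
      have hud : n⁻¹ * v * n ≠ d := fun h => huc (h ▸ IsConj.refl d)
      have := ((hor _ hu hu1 hud).resolve_left huc)
      rw [show v * (n * d * n⁻¹) = n * (n⁻¹ * v * n * d) * n⁻¹ by group, isConj_conj_iff]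
      exact this
    let T : Subgroup G :=
      { carrier := {v | v ∈ A ∧ ¬ IsConj d v}
        one_mem' := ⟨A.one_mem, hF.not_isConj_one⟩
        mul_mem' := fun {x y} hx hy => ⟨A.mul_mem hx.1 hy.1, fun h => by
          by_cases hx1 : x = 1
          · rw [hx1, one_mul] at h; exact hy.2 h
          have := hshift x hx.1 hx1 hx.2 _ (A.mul_mem hx.1 hy.1) h
          rw [← mul_assoc, hF.elem x hx.1, one_mul] at this
          exact hy.2 this⟩
        inv_mem' := fun {x} hx => by rw [inv_eq_of_mul_eq_one_right (hF.elem x hx.1)]; exact hx }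
    have hTA : T ≤ A := fun x hx => hx.1
    have hT : Nat.card T + (1 + a + b + c) = 1024 := by
      rw [← hn]
      show Nat.card ↥({v | v ∈ A ∧ ¬ IsConj d v} : Set G) + _ = _
      rw [Nat.card_coe_set_eq, ← Set.ncard_union_eq (Set.disjoint_left.2 fun x hx hx' => hx.2 hx'.2)]
      have e : {v : G | v ∈ A ∧ ¬ IsConj d v} ∪ {x : G | x ∈ A ∧ IsConj d x} = (A : Set G) := by
        ext x; simp only [Set.mem_union, Set.mem_ofPred_eq, SetLike.mem_coe]; tauto
      rw [e, ← Nat.card_coe_set_eq]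
      exact hF.card
    rcases full_cases hc0 hc1 hc2 hza hzb hzc (hF.card ▸ Subgroup.card_dvd_of_le hTA) hT with h512 | h1
    · obtain ⟨U₁, U₂, hL⟩ := hF.levi
      refine no_character hF.mem hF.elem hL hF.perfect fun x hx y hy => ?_
      have hidx : (T.subgroupOf A).index = 2 := by
        have h := (T.subgroupOf A).card_mul_index
        rw [Nat.card_congr (Subgroup.subgroupOfEquivOfLe hTA).toEquiv, h512, hF.card] at h
        omega
      have hiff : ∀ z ∈ A, (z ∈ T ↔ ¬ IsConj d z) := fun z hz => ⟨fun h => h.2, fun h => ⟨hz, h⟩⟩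
      have h := Subgroup.mul_mem_iff_of_index_two hidx (a := ⟨x, hx⟩) (b := ⟨y, hy⟩)
      simp only [Subgroup.mem_subgroupOf, MulMemClass.mk_mul_mk] at h
      rw [hiff x hx, hiff y hy, hiff _ (A.mul_mem hx hy)] at h
      tauto
    · obtain ⟨X, htr, hst, -⟩ := hF.exists_induced
      refine not_transitive hF.card (d := (⟨d, hF.mem⟩ : A)) (fun h => hF.ne (congrArg Subtype.val h))
        (fun v hv => htr v ?_) hst
      by_contra hvc
      have hbot : T = ⊥ := Subgroup.eq_bot_of_card_eq _ h1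
      have hvT : (v : G) ∈ T := ⟨v.2, hvc⟩
      rw [hbot, Subgroup.mem_bot] at hvT
      exact hv (Subtype.ext hvT)

/-- Exactly 22 conjugates of `d` lie in `A`, and the normaliser of `A` permutes them transitively. -/
theorem conclusion : Set.ncard {x : G | x ∈ A ∧ IsConj d x} = 22 ∧
    ∀ x ∈ A, ∀ y ∈ A, IsConj d x → IsConj d y → ∃ n ∈ Subgroup.normalizer (A : Set G), n * x * n⁻¹ = y := by
  refine ⟨hF.ncard_eq, fun x hx y hy hxc hyc => ?_⟩
  obtain ⟨n, hn, rfl⟩ := hF.exists_norm hx hxc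
  obtain ⟨m, hm, rfl⟩ := hF.exists_norm hy hyc
  exact ⟨m * n⁻¹, Subgroup.mul_mem _ hm (Subgroup.inv_mem _ hn), by group⟩

end Frame

end Cfsg.Agent.Lib.Fischer3T60
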