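import Cfsg.Agent.Lib.Fischer3T60.Interface

/-!
# The conjugates of `d` in `A` are not the complement of a hyperplane

If the indicator of `d^G` is a character on `A`, it is one on every conjugate of `A` under the centraliser of `d`;
two such conjugates carrying the Levi part then give a subgroup of index 2 in a Sylow 2-subgroup of the
centraliser avoiding `d`, against `d` being central in a perfect group.
-/

set_option autoImplicit false

namespace Cfsg.Agent.Lib.Fischer3T60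

variable {G : Type*} [Group G]

/-- The indicator of the class of `d` is additive on `U`. -/
def Additive' (d : G) (U : Subgroup G) : Prop :=
  ∀ a ∈ U, ∀ b ∈ U, (IsConj d (a * b) ↔ ¬ (IsConj d a ↔ IsConj d b))

theorem isConj_conj_iff {d u c : G} : IsConj d (c * u * c⁻¹) ↔ IsConj d u := by
  have h : IsConj u (c * u * c⁻¹) := isConj_iff.2 ⟨c, rfl⟩
  exact ⟨fun h' => h'.trans h.symm, fun h' => h'.trans h⟩

theorem Additive'.of_conj {d : G} {A U : Subgroup G} (h : Additive' d A) {c : G}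
    (hc : ∀ u ∈ U, c * u * c⁻¹ ∈ A) : Additive' d U := by
  intro a ha b hb
  have := h _ (hc a ha) _ (hc b hb)
  rw [show c * a * c⁻¹ * (c * b * c⁻¹) = c * (a * b) * c⁻¹ by group, isConj_conj_iff, isConj_conj_iff,
    isConj_conj_iff] at this
  exact this

/-- The part of `U` outside the class of `d`. -/
def evenPart {d : G} {U : Subgroup G} (h : Additive' d U) : Subgroup G where
  carrier := {u | u ∈ U ∧ ¬ IsConj d u}
  one_mem' := ⟨U.one_mem, fun hh => ((h 1 U.one_mem 1 U.one_mem).1 (by rwa [one_mul])) Iff.rfl⟩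
  mul_mem' := fun {a b} ha hb => ⟨U.mul_mem ha.1 hb.1, fun hh => by
    have := (h a ha.1 b hb.1).1 hh
    exact this ⟨fun e => absurd e ha.2, fun e => absurd e hb.2⟩⟩
  inv_mem' := fun {a} ha => ⟨U.inv_mem ha.1, fun hh => by
    have h1 := h a ha.1 a⁻¹ (U.inv_mem ha.1)
    rw [mul_inv_cancel] at h1
    have h11 := h 1 U.one_mem 1 U.one_mem
    rw [one_mul] at h11
    have hone : ¬ IsConj d (1 : G) := fun e => (h11.1 e) Iff.rfl
    exact hone (h1.2 fun e => ha.2 (e.2 hh))⟩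

theorem mem_evenPart {d : G} {U : Subgroup G} (h : Additive' d U) {u : G} :
    u ∈ evenPart h ↔ u ∈ U ∧ ¬ IsConj d u := Iff.rfl

theorem norm_evenPart {d : G} {U : Subgroup G} (h : Additive' d U) :
    Subgroup.normalizer (U : Set G) ≤ Subgroup.normalizer (evenPart h : Set G) := by
  intro g hg
  rw [Subgroup.mem_normalizer_iff] at hg ⊢
  intro x
  rw [mem_evenPart, mem_evenPart, hg x, isConj_conj_iff]

theorem mem_or_mul {d : G} {U : Subgroup G} (h : Additive' d U) (hd : d ∈ U) {u : G} (hu : u ∈ U) :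
    u ∈ evenPart h ∨ u * d ∈ evenPart h := by
  by_cases hc : IsConj d u
  · refine Or.inr ⟨U.mul_mem hu hd, fun hh => ?_⟩
    exact ((h u hu d hd).1 hh) ⟨fun _ => IsConj.refl d, fun _ => hc⟩
  · exact Or.inl ⟨hu, hc⟩

/-- A central element of odd-index subgroup with a subgroup of index 2 avoiding it is no commutator product. -/
theorem not_perfect_of_split {C : Type*} [Group C] [Finite C] (z : C) (hz : ∀ g : C, g * z = z * g)
    (S : Subgroup C) (hS : Odd S.index) (hzS : z ∈ S) (K : Subgroup S)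
    (hK : ∀ s : S, s ∈ K ∨ s * ⟨z, hzS⟩ ∈ K) (hzK : (⟨z, hzS⟩ : S) ∉ K) : commutator C ≠ ⊤ := by
  classical
  intro htop
  have hidx : K.index = 2 := Subgroup.index_eq_two_iff.2 ⟨⟨z, hzS⟩, fun b => by
    rcases hK b with h | h
    · exact Or.inr ⟨h, fun h' => hzK (by simpa using K.mul_mem (K.inv_mem h) h')⟩
    · exact Or.inl ⟨h, fun h' => hzK (by simpa using K.mul_mem (K.inv_mem h') h)⟩⟩
  let φ : S →* ℤˣ :=
    { toFun := fun s => if s ∈ K then 1 else -1
      map_one' := by simp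
      map_mul' := fun a b => by
        have := Subgroup.mul_mem_iff_of_index_two hidx (a := a) (b := b)
        by_cases ha : a ∈ K <;> by_cases hb : b ∈ K <;> simp_all }
  have key : ∀ (k : ℕ) (g₀ : C), g₀⁻¹ * z ^ k * g₀ ∈ S → g₀⁻¹ * z ^ k * g₀ = z ^ k := fun k g₀ _ => by
    rw [mul_assoc, ← (Commute.pow_right (hz g₀) k).eq, inv_mul_cancel_left]
  have h1 : φ.transfer z = 1 := by
    have hle : commutator C ≤ φ.transfer.ker := Abelianization.commutator_subset_ker _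
    exact hle (htop ▸ Subgroup.mem_top z)
  rw [MonoidHom.transfer_eq_pow φ z key] at h1
  have e : (⟨z ^ S.index, MonoidHom.transfer_eq_pow_aux z key⟩ : S) = ⟨z, hzS⟩ ^ S.index := Subtype.ext rfl
  rw [e, map_pow] at h1
  have hφz : φ ⟨z, hzS⟩ = -1 := if_neg hzK
  rw [hφz, hS.neg_one_pow] at h1
  exact absurd h1 (by decide)

/-- A subgroup of index 2 of `A U₁ U₂` avoiding `d`, when both `U₁` and `U₂` contain `d`. -/
theorem exists_split_aux {d : G} {A U₁ U₂ : Subgroup G} (hdA : d ∈ A) (helem : ∀ a ∈ A, a * a = 1)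
    (conj₁ : ∃ c : G, c * d = d * c ∧ ∀ u ∈ U₁, c * u * c⁻¹ ∈ A)
    (conj₂ : ∃ c : G, c * d = d * c ∧ ∀ u ∈ U₂, c * u * c⁻¹ ∈ A)
    (norm₁ : U₁ ≤ Subgroup.normalizer (A : Set G)) (norm₂ : U₂ ≤ Subgroup.normalizer (A : Set G))
    (norm₂₁ : U₂ ≤ Subgroup.normalizer (U₁ : Set G))
    (inter : (A ⊔ U₁) ⊓ U₂ ≤ (A ⊓ U₂) ⊔ (U₁ ⊓ U₂))
    (hd₁ : d ∈ U₁) (hd₂ : d ∈ U₂) (hadd : Additive' d A) :
    ∃ K : Subgroup G, evenPart hadd ≤ K ∧ K ≤ A ⊔ U₁ ⊔ U₂ ∧ d ∉ K ∧
      (∀ s ∈ A ⊔ U₁ ⊔ U₂, s * d = d * s) ∧ ∀ s ∈ A ⊔ U₁ ⊔ U₂, s ∈ K ∨ s * d ∈ K := by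
  obtain ⟨c₁, hc₁d, hc₁⟩ := conj₁
  obtain ⟨c₂, hc₂d, hc₂⟩ := conj₂
  have h₁ : Additive' d U₁ := hadd.of_conj hc₁
  have h₂ : Additive' d U₂ := hadd.of_conj hc₂
  have hAcomm : ∀ a ∈ A, ∀ b ∈ A, a * b = b * a := fun a ha b hb => by
    have e := helem _ (A.mul_mem ha hb)
    calc a * b = (a * b)⁻¹ := eq_inv_of_mul_eq_one_left e
      _ = b * a := by rw [mul_inv_rev, ← eq_inv_of_mul_eq_one_left (helem a ha), ← eq_inv_of_mul_eq_one_left (helem b hb)]
  have hcen : ∀ c : G, c * d = d * c → ∀ u : G, c * u * c⁻¹ ∈ A → u * d = d * u := by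
    intro c hc u hu
    have := hAcomm _ hu _ hdA
    rw [show d = c * d * c⁻¹ by rw [hc]; group, show c * u * c⁻¹ * (c * d * c⁻¹) = c * (u * d) * c⁻¹ by group,
      show c * d * c⁻¹ * (c * u * c⁻¹) = c * (d * u) * c⁻¹ by group] at this
    simpa using this
  set F₁ := evenPart h₁
  set F₂ := evenPart h₂
  set H := evenPart hadd
  have hF₁le : F₁ ≤ U₁ := fun x hx => hx.1
  have hF₂le : F₂ ≤ U₂ := fun x hx => hx.1
  have hn1 : F₁ ≤ Subgroup.normalizer (H : Set G) := hF₁le.trans (norm₁.trans (norm_evenPart hadd))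
  have hn2H : F₂ ≤ Subgroup.normalizer (H : Set G) := hF₂le.trans (norm₂.trans (norm_evenPart hadd))
  have hn2F : F₂ ≤ Subgroup.normalizer (F₁ : Set G) := hF₂le.trans (norm₂₁.trans (norm_evenPart h₁))
  have hn2 : F₂ ≤ Subgroup.normalizer ((H ⊔ F₁ : Subgroup G) : Set G) :=
    fun x hx => Subgroup.mem_normalizer_iff_map_conj_eq.2 (by
      rw [Subgroup.map_sup, Subgroup.mem_normalizer_iff_map_conj_eq.1 (hn2H hx),
        Subgroup.mem_normalizer_iff_map_conj_eq.1 (hn2F hx)])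
  set K := H ⊔ F₁ ⊔ F₂ with hKdef
  -- `d` avoids `K`
  have hdK : d ∉ K := by
    intro hd
    rw [hKdef, ← SetLike.mem_coe, Subgroup.coe_mul_of_right_le_normalizer_left _ _ hn2] at hd
    obtain ⟨x, hx, f₂, hf₂, hd⟩ := hd
    rw [SetLike.mem_coe, ← SetLike.mem_coe, Subgroup.coe_mul_of_right_le_normalizer_left _ _ hn1] at hx
    obtain ⟨h, hh, f₁, hf₁, rfl⟩ := hx
    change h * f₁ * f₂ = d at hd
    have hHA : h ∈ A := hh.1
    have hf₂M : f₂ ∈ (A ⊔ U₁) ⊓ U₂ := by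
      refine ⟨?_, hf₂.1⟩
      have : f₂ = (h * f₁)⁻¹ * d := by rw [← hd]; group
      rw [this]
      exact Subgroup.mul_mem _ (Subgroup.inv_mem _ (Subgroup.mul_mem _ (Subgroup.mem_sup_left hHA)
        (Subgroup.mem_sup_right hf₁.1))) (Subgroup.mem_sup_left hdA)
    have hn : U₁ ⊓ U₂ ≤ Subgroup.normalizer ((A ⊓ U₂ : Subgroup G) : Set G) := by
      refine Subgroup.le_normalizer_iff.2 fun u hu a ha => ⟨?_, ?_⟩
      · exact (Subgroup.mem_normalizer_iff.1 (norm₁ hu.1) a).1 ha.1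
      · exact U₂.mul_mem (U₂.mul_mem hu.2 ha.2) (U₂.inv_mem hu.2)
    have hmem := inter hf₂M
    rw [← SetLike.mem_coe, Subgroup.coe_mul_of_right_le_normalizer_left _ _ hn] at hmem
    obtain ⟨a, ha, e, he, hae⟩ := hmem
    change a * e = f₂ at hae
    subst hae
    have k2 : IsConj d a ↔ IsConj d e := by
      by_contra hne
      exact hf₂.2 ((h₂ a ha.2 e he.2).2 hne)
    set a' := f₁ * a * f₁⁻¹ with ha'
    have ha'A : a' ∈ A := (Subgroup.mem_normalizer_iff.1 (norm₁ hf₁.1) a).1 ha.1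
    have hfe : f₁ * e = (h * a')⁻¹ * d := by
      rw [← hd, ha']; group
    have k1 : IsConj d (f₁ * e) ↔ IsConj d e := by
      rw [h₁ f₁ hf₁.1 e he.1]
      have := hf₁.2
      tauto
    have k3 : IsConj d (h * a') ↔ IsConj d a := by
      rw [hadd h hHA a' ha'A, ha', isConj_conj_iff]
      have := hh.2
      tauto
    have hinv : (h * a')⁻¹ = h * a' := inv_eq_of_mul_eq_one_right (helem _ (A.mul_mem hHA ha'A))
    have k4 := hadd (h * a') (A.mul_mem hHA ha'A) d hdA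
    rw [← hinv, ← hfe, k1, hinv, k3] at k4
    simp only [IsConj.refl, iff_true] at k4
    tauto
  -- every element of `S = A U₁ U₂` lies in `K ∪ K d`
  set S := A ⊔ U₁ ⊔ U₂ with hSdef
  have hScen : ∀ s ∈ S, s * d = d * s := by
    have : S ≤ Subgroup.centralizer ({d} : Set G) := by
      refine sup_le (sup_le ?_ ?_) ?_ <;> intro u hu <;> rw [Subgroup.mem_centralizer_singleton_iff]
      · exact hAcomm u hu d hdA
      · exact hcen c₁ hc₁d u (hc₁ u hu)
      · exact hcen c₂ hc₂d u (hc₂ u hu)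
    exact fun s hs => Subgroup.mem_centralizer_singleton_iff.1 (this hs)
  have hKS : K ≤ S := sup_le_sup (sup_le_sup (fun x hx => hx.1) hF₁le) hF₂le
  have hdd : d * d = 1 := helem d hdA
  have hdinv : d⁻¹ = d := inv_eq_of_mul_eq_one_right hdd
  let L : Subgroup G :=
    { carrier := {s | s ∈ S ∧ (s ∈ K ∨ s * d ∈ K)}
      one_mem' := ⟨S.one_mem, Or.inl K.one_mem⟩
      mul_mem' := fun {a b} ha hb => by
        refine ⟨S.mul_mem ha.1 hb.1, ?_⟩
        have hbd := hScen b hb.1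
        rcases ha.2 with h | h <;> rcases hb.2 with h' | h'
        · exact Or.inl (K.mul_mem h h')
        · exact Or.inr (by rw [mul_assoc]; exact K.mul_mem h h')
        · refine Or.inr ?_
          have := K.mul_mem h h'
          rwa [mul_assoc, ← hbd, ← mul_assoc] at this
        · refine Or.inl ?_
          have := K.mul_mem h h'
          rwa [mul_assoc, ← mul_assoc d, ← hbd, mul_assoc b, hdd, mul_one] at this
      inv_mem' := fun {a} ha => by
        refine ⟨S.inv_mem ha.1, ?_⟩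
        rcases ha.2 with h | h
        · exact Or.inl (K.inv_mem h)
        · refine Or.inr ?_
          have := K.inv_mem h
          rwa [mul_inv_rev, hdinv, ← hScen _ (S.inv_mem ha.1)] at this }
  have hLS : S ≤ L := by
    have e₀ : ∀ {U : Subgroup G} (h : Additive' d U), d ∈ U → evenPart h ≤ K → U ≤ S → U ≤ L := by
      intro U h hdU hle hUS u hu
      exact ⟨hUS hu, (mem_or_mul h hdU hu).imp (fun x => hle x) (fun x => hle x)⟩
    refine sup_le (sup_le ?_ ?_) ?_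
    · exact e₀ hadd hdA (le_sup_left.trans le_sup_left) (le_sup_left.trans le_sup_left)
    · exact e₀ h₁ hd₁ (le_sup_right.trans le_sup_left) (le_sup_right.trans le_sup_left)
    · exact e₀ h₂ hd₂ le_sup_right le_sup_right
  exact ⟨K, le_sup_left.trans le_sup_left, hKS, hdK, hScen, fun s hs => (hLS hs).2⟩

/-- A subgroup of index 2 of `A U₁ U₂` avoiding `d` and containing the even part of `A`. -/
theorem exists_split {d : G} {A U₁ U₂ : Subgroup G} (hdA : d ∈ A) (helem : ∀ a ∈ A, a * a = 1)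
    (conj₁ : ∃ c : G, c * d = d * c ∧ ∀ u ∈ U₁, c * u * c⁻¹ ∈ A)
    (conj₂ : ∃ c : G, c * d = d * c ∧ ∀ u ∈ U₂, c * u * c⁻¹ ∈ A)
    (norm₁ : U₁ ≤ Subgroup.normalizer (A : Set G)) (norm₂ : U₂ ≤ Subgroup.normalizer (A : Set G))
    (norm₂₁ : U₂ ≤ Subgroup.normalizer (U₁ : Set G))
    (inter : (A ⊔ U₁) ⊓ U₂ ≤ (A ⊓ U₂) ⊔ (U₁ ⊓ U₂)) (hadd : Additive' d A) :
    ∃ K : Subgroup G, evenPart hadd ≤ K ∧ K ≤ A ⊔ U₁ ⊔ U₂ ∧ d ∉ K ∧
      (∀ s ∈ A ⊔ U₁ ⊔ U₂, s * d = d * s) ∧ ∀ s ∈ A ⊔ U₁ ⊔ U₂, s ∈ K ∨ s * d ∈ K := by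
  set Z := Subgroup.zpowers d
  have hZA : Z ≤ A := Subgroup.zpowers_le.2 hdA
  obtain ⟨c₁, hc₁d, hc₁⟩ := conj₁
  obtain ⟨c₂, hc₂d, hc₂⟩ := conj₂
  have hcA : ∀ c : G, c * d = d * c → ∀ U : Subgroup G, (∀ u ∈ U, c * u * c⁻¹ ∈ A) →
      ∀ u ∈ U ⊔ Z, c * u * c⁻¹ ∈ A := by
    intro c hc U hU u hu
    have : U ⊔ Z ≤ A.comap (MulAut.conj c).toMonoidHom := by
      refine sup_le (fun x hx => hU x hx) (Subgroup.zpowers_le.2 ?_)
      show c * d * c⁻¹ ∈ A
      rwa [hc, mul_inv_cancel_right]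
    exact this hu
  have hAcomm : ∀ a ∈ A, a * d = d * a := fun a ha => by
    have e := helem _ (A.mul_mem ha hdA)
    calc a * d = (a * d)⁻¹ := eq_inv_of_mul_eq_one_left e
      _ = d * a := by rw [mul_inv_rev, ← eq_inv_of_mul_eq_one_left (helem a ha), ← eq_inv_of_mul_eq_one_left (helem d hdA)]
  have hdU : ∀ u ∈ U₂, u * d = d * u := fun u hu => by
    have := hAcomm _ (hc₂ u hu)
    rw [show d = c₂ * d * c₂⁻¹ by rw [hc₂d]; group,
      show c₂ * u * c₂⁻¹ * (c₂ * d * c₂⁻¹) = c₂ * (u * d) * c₂⁻¹ by group,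
      show c₂ * d * c₂⁻¹ * (c₂ * u * c₂⁻¹) = c₂ * (d * u) * c₂⁻¹ by group] at this
    simpa using this
  have hdU1 : ∀ u ∈ U₁, u * d = d * u := fun u hu => by
    have := hAcomm _ (hc₁ u hu)
    rw [show d = c₁ * d * c₁⁻¹ by rw [hc₁d]; group,
      show c₁ * u * c₁⁻¹ * (c₁ * d * c₁⁻¹) = c₁ * (u * d) * c₁⁻¹ by group,
      show c₁ * d * c₁⁻¹ * (c₁ * u * c₁⁻¹) = c₁ * (d * u) * c₁⁻¹ by group] at this
    simpa using this
  have hU1C : U₁ ⊔ Z ≤ Subgroup.centralizer ({d} : Set G) := sup_le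
    (fun u hu => Subgroup.mem_centralizer_singleton_iff.2 (hdU1 u hu))
    (Subgroup.zpowers_le.2 (Subgroup.mem_centralizer_singleton_iff.2 rfl))
  have hdNA : d ∈ Subgroup.normalizer (A : Set G) := Subgroup.le_normalizer hdA
  have hNZ : ∀ u : G, u * d = d * u → u ∈ Subgroup.normalizer (Z : Set G) := fun u hu =>
    Subgroup.mem_normalizer_iff_map_conj_eq.2 (by
      rw [MonoidHom.map_zpowers]
      show Subgroup.zpowers (u * d * u⁻¹) = Z
      rw [hu, mul_inv_cancel_right])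
  have hsup : A ⊔ (U₁ ⊔ Z) ⊔ (U₂ ⊔ Z) = A ⊔ U₁ ⊔ U₂ := by
    apply le_antisymm
    · exact sup_le (sup_le (le_sup_left.trans le_sup_left) (sup_le (le_sup_right.trans le_sup_left)
        (hZA.trans (le_sup_left.trans le_sup_left)))) (sup_le le_sup_right (hZA.trans (le_sup_left.trans le_sup_left)))
    · exact sup_le_sup (sup_le_sup le_rfl le_sup_left) le_sup_left
  rw [← hsup]
  refine exists_split_aux hdA helem ⟨c₁, hc₁d, hcA c₁ hc₁d U₁ hc₁⟩
    ⟨c₂, hc₂d, hcA c₂ hc₂d U₂ hc₂⟩ (sup_le norm₁ (Subgroup.zpowers_le.2 hdNA))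
    (sup_le norm₂ (Subgroup.zpowers_le.2 hdNA)) ?_ ?_ (Subgroup.mem_sup_right (Subgroup.mem_zpowers d))
    (Subgroup.mem_sup_right (Subgroup.mem_zpowers d)) hadd
  · refine sup_le (fun u hu => Subgroup.mem_normalizer_iff_map_conj_eq.2 ?_) ?_
    · rw [Subgroup.map_sup, Subgroup.mem_normalizer_iff_map_conj_eq.1 (norm₂₁ hu),
        Subgroup.mem_normalizer_iff_map_conj_eq.1 (hNZ u (hdU u hu))]
    · refine Subgroup.zpowers_le.2 (Subgroup.mem_normalizer_iff.2 fun x => ?_)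
      constructor
      · intro hx
        rw [← Subgroup.mem_centralizer_singleton_iff.1 (hU1C hx), mul_inv_cancel_right]
        exact hx
      · intro hx
        have hcx := Subgroup.mem_centralizer_singleton_iff.1 (hU1C hx)
        have e : x = d * x * d⁻¹ := by
          have h' : d * x * d⁻¹ * d = d * (d * x * d⁻¹) := hcx
          rw [inv_mul_cancel_right] at h'
          exact mul_left_cancel h'
        rw [e]; exact hx
  · rw [show A ⊔ (U₁ ⊔ Z) = A ⊔ U₁ by rw [← sup_assoc, sup_right_comm, sup_eq_left.2 hZA]]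
    rintro x ⟨hx1, hx2⟩
    replace hx2 : x ∈ ((U₂ ⊔ Z : Subgroup G) : Set G) := hx2
    replace hx1 : x ∈ A ⊔ U₁ := hx1
    rw [Subgroup.coe_mul_of_left_le_normalizer_right _ _ (fun u hu => hNZ u (hdU u hu))] at hx2
    obtain ⟨u, hu, z, hz, rfl⟩ := hx2
    change u * z ∈ _
    have hu1 : u ∈ A ⊔ U₁ := by
      have := Subgroup.mul_mem _ hx1 (Subgroup.mem_sup_left (T := U₁) (A.inv_mem (hZA hz)))
      simpa using this
    exact Subgroup.mul_mem _
      (sup_le_sup (inf_le_inf_left A le_sup_left) (inf_le_inf le_sup_left le_sup_left) (inter ⟨hu1, hu⟩))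
      (Subgroup.mem_sup_left ⟨hZA hz, Subgroup.mem_sup_right hz⟩)

/-- The contradiction. -/
theorem no_character [Finite G] {d : G} {A U₁ U₂ : Subgroup G} (hdA : d ∈ A) (helem : ∀ a ∈ A, a * a = 1)
    (hL : LeviData d A U₁ U₂)
    (hperf : commutator ↥(Subgroup.centralizer ({d} : Set G)) = ⊤) (hadd : Additive' d A) : False := by
  obtain ⟨K, -, -, hdK, hScen, hLS⟩ :=
    exists_split hdA helem hL.conj₁ hL.conj₂ hL.norm₁ hL.norm₂ hL.norm₂₁ hL.inter hadd
  set S := A ⊔ U₁ ⊔ U₂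
  set C := Subgroup.centralizer ({d} : Set G)
  have hdC : d ∈ C := Subgroup.mem_centralizer_singleton_iff.2 rfl
  exact not_perfect_of_split (⟨d, hdC⟩ : C)
    (fun g => Subtype.ext (Subgroup.mem_centralizer_singleton_iff.1 g.2)) (S.subgroupOf C) hL.odd_index
    (Subgroup.mem_sup_left (Subgroup.mem_sup_left hdA)) ((K.subgroupOf C).subgroupOf (S.subgroupOf C))
    (fun s => hLS _ s.2) hdK hperf

/-- The special case in which both `U₁` and `U₂` contain `d`. -/
theorem no_character_aux [Finite G] {d : G} {A U₁ U₂ : Subgroup G} (hdA : d ∈ A) (helem : ∀ a ∈ A, a * a = 1)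
    (hL : LeviData d A U₁ U₂) (_hd₁ : d ∈ U₁) (_hd₂ : d ∈ U₂)
    (hperf : commutator ↥(Subgroup.centralizer ({d} : Set G)) = ⊤) (hadd : Additive' d A) : False :=
  no_character hdA helem hL hperf hadd

end Cfsg.Agent.Lib.Fischer3T60
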